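import Groth.Agent.Lib.FunField.ConstExt26
import Groth.Agent.Lib.FunField.Degree
import Mathlib.FieldTheory.SeparableClosure
import Mathlib.FieldTheory.PurelyInseparable.Tower
import Mathlib.FieldTheory.IsAlgClosed.AlgebraicClosure

/-! # Places over a nonsingular place in a splitting field -/

set_option autoImplicit false
set_option linter.style.haveILetI false

namespace Groth.Agent.NonsingSplit28

open WithZero FunFld FunField Polynomial
open scoped Multiplicative TensorProduct

universe u v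

attribute [local instance high] Algebra.toModule

variable {k k' : Type u} {K K' : Type v} [Field k] [Field k'] [Field K] [Field K']
  [Algebra k k'] [FiniteDimensional k k'] [Algebra k K] [Algebra K K'] [Algebra k' K'] [Algebra k K']
  [IsScalarTower k k' K'] [IsScalarTower k K K']

omit [Algebra K K'] [IsScalarTower k K K'] [Algebra k K] in
theorem val_const_le (Q : Place k K') (c : k') : Q.1 (algebraMap k' K' c) ≤ 1 := by
  rcases eq_or_ne c 0 with rfl | hc
  · simp
  · exact (val_eq_one_of_isAlgebraic Q ((Algebra.IsAlgebraic.isAlgebraic c).algebraMap) (by simpa using hc)).le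

omit [Algebra K K'] [IsScalarTower k K K'] [Algebra k K] in
theorem val_const_eq (Q : Place k K') {c : k'} (hc : c ≠ 0) : Q.1 (algebraMap k' K' c) = 1 :=
  val_eq_one_of_isAlgebraic Q ((Algebra.IsAlgebraic.isAlgebraic c).algebraMap) (by simpa using hc)

variable (k') in
/-- The classes modulo `exp (-n)` at a place. -/
def Mn (Q : Place k K') (n : ℕ) : Submodule k' K' where
  carrier := {z | Q.1 z ≤ exp (-(n : ℤ))}
  add_mem' ha hb := by
    simp only [Set.mem_ofPred_eq] at ha hb ⊢
    exact Valuation.map_add_le _ ha hb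
  zero_mem' := by simp
  smul_mem' c z hz := by
    simp only [Set.mem_ofPred_eq] at hz ⊢
    rw [Algebra.smul_def, map_mul]
    exact (mul_le_mul' (val_const_le Q c) hz).trans_eq (one_mul _)

theorem mem_Mn {Q : Place k K'} {n : ℕ} {z : K'} : z ∈ Mn k' Q n ↔ Q.1 z ≤ exp (-(n : ℤ)) := by
  exact Set.mem_ofPred_eq ▸ Iff.rfl

theorem mem_Mn_zero {Q : Place k K'} {z : K'} : z ∈ Mn k' Q 0 ↔ Q.1 z ≤ 1 := by
  rw [mem_Mn]; simp

variable (k') in
/-- `O_Q` modulo `exp (-n)`. -/
def Wn (Q : Place k K') (n : ℕ) : Submodule k' (K' ⧸ Mn k' Q n) :=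
  (Mn k' Q 0).map (Mn k' Q n).mkQ

theorem exists_digits (Q : Place k K') {s : K'} (hs : Q.1 s = exp (-1))
    (hres : ∀ z : K', Q.1 z ≤ 1 → ∃ c : k', Q.1 (z - algebraMap k' K' c) < 1) {z : K'} (hz : Q.1 z ≤ 1) (n : ℕ) :
    ∃ c : Fin n → k', z - ∑ i, c i • s ^ (i : ℕ) ∈ Mn k' Q n := by
  induction n with
  | zero => exact ⟨Fin.elim0, by rw [mem_Mn_zero]; simpa using hz⟩
  | succ n ih =>
    obtain ⟨c, hc⟩ := ih
    set w := z - ∑ i, c i • s ^ (i : ℕ) with hw
    have hsn : Q.1 (s ^ n) = exp (-(n : ℤ)) := by rw [map_pow, hs, ← exp_nsmul]; simp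
    have hsn0 : s ^ n ≠ 0 := fun e => by rw [e, map_zero] at hsn; exact exp_ne_zero hsn.symm
    obtain ⟨a, ha⟩ := hres (w / s ^ n) (by rw [map_div₀, hsn, div_le_iff₀ exp_pos, one_mul]; exact mem_Mn.1 hc)
    refine ⟨Fin.snoc c a, ?_⟩
    rw [mem_Mn, Fin.sum_univ_castSucc]
    simp only [Fin.snoc_castSucc, Fin.snoc_last, Fin.val_castSucc, Fin.val_last]
    rw [← sub_sub, ← hw, show w - a • s ^ n = s ^ n * (w / s ^ n - algebraMap k' K' a) by
      rw [Algebra.smul_def]; field_simp, map_mul, hsn]
    refine (mul_le_mul' le_rfl ((lt_one_iff_le _).1 ha)).trans_eq ?_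
    rw [← exp_add]; congr 1; push_cast; ring

theorem finrank_Wn (Q : Place k K') {s : K'} (hs : Q.1 s = exp (-1))
    (hres : ∀ z : K', Q.1 z ≤ 1 → ∃ c : k', Q.1 (z - algebraMap k' K' c) < 1) (n : ℕ) :
    FiniteDimensional k' (Wn k' Q n) ∧ Module.finrank k' (Wn k' Q n) = n := by
  classical
  let f : Fin n → K' ⧸ Mn k' Q n := fun i => (Mn k' Q n).mkQ (s ^ (i : ℕ))
  have hspan : Wn k' Q n = Submodule.span k' (Set.range f) := by
    refine le_antisymm ?_ (Submodule.span_le.2 ?_)
    · rintro _ ⟨z, hz, rfl⟩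
      obtain ⟨c, hc⟩ := exists_digits Q hs hres (mem_Mn_zero.1 hz) n
      rw [show (Mn k' Q n).mkQ z = (Mn k' Q n).mkQ (∑ i, c i • s ^ (i : ℕ)) from (Submodule.Quotient.eq _).2 hc,
        map_sum]
      exact Submodule.sum_mem _ fun i _ => by
        rw [map_smul]; exact Submodule.smul_mem _ _ (Submodule.subset_span ⟨i, rfl⟩)
    · rintro _ ⟨i, rfl⟩
      refine Submodule.mem_map_of_mem (mem_Mn.2 ?_)
      rw [map_pow, hs, ← exp_nsmul, exp_le_exp]; simp
  have hli : LinearIndependent k' f := by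
    rw [Fintype.linearIndependent_iff]
    intro c hc
    have hmem : ∑ i, c i • s ^ (i : ℕ) ∈ Mn k' Q n := by
      rw [← Submodule.Quotient.mk_eq_zero, ← Submodule.mkQ_apply, map_sum, ← hc]
      simp only [map_smul, f]
    by_contra hne
    push Not at hne
    obtain ⟨i₀, hi₀, hmin⟩ := Finset.exists_min_image (Finset.univ.filter fun i => c i ≠ 0) (fun i => (i : ℕ))
      (by obtain ⟨i, hi⟩ := hne; exact ⟨i, by simp [hi]⟩)
    simp only [Finset.mem_filter, Finset.mem_univ, true_and] at hi₀ hmin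
    have hv : ∀ i, c i ≠ 0 → Q.1 (c i • s ^ (i : ℕ)) = exp (-(i : ℤ)) := fun i hi => by
      rw [Algebra.smul_def, map_mul, val_const_eq Q hi, one_mul, map_pow, hs, ← exp_nsmul]; simp
    have hrest : Q.1 (∑ i ∈ Finset.univ.erase i₀, c i • s ^ (i : ℕ)) < Q.1 (c i₀ • s ^ (i₀ : ℕ)) := by
      rw [hv i₀ hi₀]
      refine Valuation.map_sum_lt _ exp_ne_zero fun i hi => ?_
      rcases eq_or_ne (c i) 0 with h0 | h0
      · rw [h0, zero_smul, map_zero]; exact exp_pos
      · rw [hv i h0, exp_lt_exp]
        have h1 := hmin i h0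
        have h2 : (i : ℕ) ≠ i₀ := fun e => (Finset.mem_erase.1 hi).1 (Fin.ext e)
        omega
    have h3 : Q.1 (∑ i, c i • s ^ (i : ℕ)) ≤ exp (-(n : ℤ)) := mem_Mn.1 hmem
    rw [← Finset.add_sum_erase _ _ (Finset.mem_univ i₀), Valuation.map_add_eq_of_lt_left _ hrest,
      hv i₀ hi₀, exp_le_exp] at h3
    have := i₀.2
    omega
  rw [hspan]
  exact ⟨FiniteDimensional.span_of_finite k' (Set.finite_range f), by
    rw [finrank_span_eq_card hli, Fintype.card_fin]⟩

theorem result (h : Function.Bijective (Algebra.TensorProduct.productMap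
      (IsScalarTower.toAlgHom k k' K') (IsScalarTower.toAlgHom k K K')))
    (hF : FF k K) (P : Place k K) [Algebra P.O K'] [IsScalarTower P.O K K']
    (hA : ∀ z : K', IsIntegral P.O z → z ∈ Algebra.adjoin P.O (Set.range (algebraMap k' K')))
    (hres : ∀ Q : Place k K', IsOver Q P → ∀ z : K', Q.1 z ≤ 1 → ∃ c : k', Q.1 (z - algebraMap k' K' c) < 1) :
    {Q : Place k K' | IsOver Q P}.ncard = Field.finSepDegree k (IsLocalRing.ResidueField P.O) ∧
      ∀ Q : Place k K', IsOver Q P →
        IsOverWith Q P (Module.finrank (separableClosure k (IsLocalRing.ResidueField P.O))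
          (IsLocalRing.ResidueField P.O)) := by
  classical
  haveI := finite_of_bijective h
  haveI : Module.Finite k (IsLocalRing.ResidueField P.O) := hF.finite_residueField P
  haveI hfin := (finite_fibre (K' := K') hF P).to_subtype
  obtain ⟨t, ht0, ht⟩ := exists_uniformizer P
  let tO : P.O := ⟨t, by rw [mem_O_iff, ht, ← exp_zero, exp_le_exp]; norm_num⟩
  set T := algebraMap K K' t
  have hT0 : T ≠ 0 := by simpa [T] using ht0
  -- the ring `O_P[k']`
  have hmemA : ∀ z : K', (∀ Q, IsOver Q P → Q.1 z ≤ 1) → ∃ u, scalarO (k' := k') P u = z := fun z hz => by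
    have h1 := hA z ((isIntegral_iff hF P z).2 hz)
    rw [← SetLike.mem_coe, range_scalarO P] at h1
    exact h1
  have hAle : ∀ (u : k' ⊗[k] P.O) (Q : Place k K'), IsOver Q P → Q.1 (scalarO P u) ≤ 1 := by
    intro u Q hQ
    refine (isIntegral_iff hF P _).1 ?_ Q hQ
    apply adjoin_le_integralClosure (k' := k') P
    rw [← SetLike.mem_coe, range_scalarO P]
    exact ⟨u, rfl⟩
  -- residues
  have hcuniq : ∀ (Q : Place k K') (z : K') (c c' : k'),
      Q.1 (z - algebraMap k' K' c) < 1 → Q.1 (z - algebraMap k' K' c') < 1 → c = c' := by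
    intro Q z c c' h1 h2
    by_contra hne
    have h3 := val_const_eq Q (sub_ne_zero.2 hne)
    rw [show algebraMap k' K' (c - c') = (z - algebraMap k' K' c') - (z - algebraMap k' K' c) by
      rw [map_sub]; ring] at h3
    exact (Valuation.map_sub_lt _ h2 h1).ne h3
  have hlift : ∀ x : IsLocalRing.ResidueField P.O, ∃ o : P.O, IsLocalRing.residue P.O o = x :=
    IsLocalRing.residue_surjective
  have hOle : ∀ (Q : Place k K') (o : P.O), IsOver Q P → Q.1 (algebraMap K K' (o : K)) ≤ 1 := fun Q o hQ => by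
    obtain ⟨e, he⟩ := hQ; rw [he]; exact pow_le_one₀ zero_le o.2
  have hsmall : ∀ (Q : Place k K') (e : ℕ), IsOverWith Q P e → ∀ o : P.O, IsLocalRing.residue P.O o = 0 →
      Q.1 (algebraMap K K' (o : K)) ≤ exp (-(e : ℤ)) := fun Q e he o ho => by
    rw [he]
    refine (pow_le_pow_left₀ zero_le ((lt_one_iff_le _).1 ((residue_eq_zero_iff P o).1 ho)) e).trans_eq ?_
    rw [← exp_nsmul]; simp
  have hτex : ∀ Q : {Q : Place k K' | IsOver Q P}, ∃ τ : IsLocalRing.ResidueField P.O →ₐ[k] k',
      ∀ o : P.O, Q.1.1 (algebraMap K K' (o : K) - algebraMap k' K' (τ (IsLocalRing.residue P.O o))) < 1 := by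
    rintro ⟨Q, hQ⟩
    obtain ⟨e, he⟩ := id hQ
    have hpos := isOverWith_pos he
    choose o ho using hlift
    choose c hc using fun x => hres Q hQ _ (hOle Q (o x) hQ)
    have key : ∀ a : P.O, Q.1 (algebraMap K K' (a : K) - algebraMap k' K' (c (IsLocalRing.residue P.O a))) < 1 := by
      intro a
      have h1 := hsmall Q e he (a - o (IsLocalRing.residue P.O a)) (by rw [map_sub, ho, sub_self])
      have h1' : Q.1 (algebraMap K K' ((a : K) - (o (IsLocalRing.residue P.O a) : K))) < 1 := by
        refine lt_of_le_of_lt h1 ?_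
        rw [← exp_zero, exp_lt_exp]; omega
      rw [show algebraMap K K' (a : K) - algebraMap k' K' (c (IsLocalRing.residue P.O a)) =
        algebraMap K K' ((a : K) - (o (IsLocalRing.residue P.O a) : K)) +
          (algebraMap K K' (o (IsLocalRing.residue P.O a) : K) -
            algebraMap k' K' (c (IsLocalRing.residue P.O a))) by rw [map_sub]; ring]
      exact Valuation.map_add_lt _ h1' (hc _)
    have hadd : ∀ a b, c (a + b) = c a + c b := fun a b => by
      obtain ⟨a, rfl⟩ := IsLocalRing.residue_surjective a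
      obtain ⟨b, rfl⟩ := IsLocalRing.residue_surjective b
      rw [← map_add]
      refine hcuniq Q _ _ _ (key (a + b)) ?_
      rw [show ((a + b : P.O) : K) = (a : K) + b from rfl, map_add, map_add,
        add_sub_add_comm]
      exact Valuation.map_add_lt _ (key a) (key b)
    have hmul : ∀ a b, c (a * b) = c a * c b := fun a b => by
      obtain ⟨a, rfl⟩ := IsLocalRing.residue_surjective a
      obtain ⟨b, rfl⟩ := IsLocalRing.residue_surjective b
      rw [← map_mul]
      refine hcuniq Q _ _ _ (key (a * b)) ?_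
      rw [show ((a * b : P.O) : K) = (a : K) * b from rfl, map_mul, map_mul]
      rw [show ∀ A B A' B' : K', A * B - A' * B' = A * (B - B') + (A - A') * B' from fun _ _ _ _ => by ring]
      refine Valuation.map_add_lt _ ?_ ?_
      · rw [map_mul]; exact (mul_le_mul' (hOle Q a hQ) le_rfl).trans_lt (by rw [one_mul]; exact key b)
      · rw [map_mul]; exact (mul_le_mul' le_rfl (val_const_le Q _)).trans_lt (by rw [mul_one]; exact key a)
    have halg : ∀ r : k, c (algebraMap k _ r) = algebraMap k k' r := fun r => by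
      refine hcuniq Q _ _ _ (key (algebraMap k P.O r)) ?_
      rw [coe_algebraMap_O, ← IsScalarTower.algebraMap_apply, ← IsScalarTower.algebraMap_apply, sub_self, map_zero]
      exact zero_lt_one
    refine ⟨{ toFun := c, map_one' := by simpa using halg 1, map_mul' := hmul,
              map_zero' := by simpa using halg 0, map_add' := hadd, commutes' := halg }, key⟩
  choose τ hτ using hτex
  -- separation
  have hinj : Function.Injective τ := by
    intro Q Q' heq
    by_contra hne
    obtain ⟨w, hw, hwQ, hwne⟩ := exists_integral_near P hF (Q := Q.1) (1 : K') (by rw [map_one]) 1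
    obtain ⟨u, hu⟩ := hmemA w ((isIntegral_iff hF P w).1 hw)
    have hrep : ∀ u : k' ⊗[k] P.O, ∃ c : k', Q.1.1 (scalarO P u - algebraMap k' K' c) < 1 ∧
        Q'.1.1 (scalarO P u - algebraMap k' K' c) < 1 := by
      intro u
      induction u using TensorProduct.induction_on with
      | zero => exact ⟨0, by simp, by simp⟩
      | add a b ha hb =>
        obtain ⟨ca, ha1, ha2⟩ := ha
        obtain ⟨cb, hb1, hb2⟩ := hb
        refine ⟨ca + cb, ?_, ?_⟩ <;> rw [map_add, map_add, add_sub_add_comm]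
        · exact Valuation.map_add_lt _ ha1 hb1
        · exact Valuation.map_add_lt _ ha2 hb2
      | tmul a o =>
        refine ⟨a * τ Q (IsLocalRing.residue P.O o), ?_, ?_⟩
        · rw [scalarO_tmul, map_mul, ← mul_sub, map_mul]
          exact (mul_le_mul' (val_const_le Q.1 a) le_rfl).trans_lt (by rw [one_mul]; exact hτ Q o)
        · rw [scalarO_tmul, map_mul, ← mul_sub, map_mul, heq]
          exact (mul_le_mul' (val_const_le Q'.1 a) le_rfl).trans_lt (by rw [one_mul]; exact hτ Q' o)
    obtain ⟨c, hc1, hc2⟩ := hrep u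
    rw [hu] at hc1 hc2
    have e1 : c = 1 := hcuniq Q.1 w c 1 hc1 (by
      rw [map_one]; exact hwQ.trans_lt (by rw [← exp_zero, exp_lt_exp]; norm_num))
    have e0 : c = 0 := hcuniq Q'.1 w c 0 hc2 (by
      rw [map_zero, sub_zero]; exact hwne Q'.1 Q'.2 fun e => hne (Subtype.ext e.symm))
    exact one_ne_zero (e1.symm.trans e0)
  let L := AlgebraicClosure k'
  have hsurj : ∀ σ : IsLocalRing.ResidueField P.O →ₐ[k] L,
      ∃ Q, (IsScalarTower.toAlgHom k k' L).comp (τ Q) = σ := by
    intro σ
    let χ : k' ⊗[k] P.O →ₐ[k] L :=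
      Algebra.TensorProduct.productMap (IsScalarTower.toAlgHom k k' L) (σ.comp (resO P))
    have hχ : ∀ a o, χ (a ⊗ₜ[k] o) = algebraMap k' L a * σ (IsLocalRing.residue P.O o) := fun a o => rfl
    haveI := Fintype.ofFinite {Q : Place k K' | IsOver Q P}
    have hQex : ∃ Q : {Q : Place k K' | IsOver Q P}, ∀ u, Q.1.1 (scalarO P u) < 1 → χ u = 0 := by
      by_contra hcon
      push Not at hcon
      choose u hu hχu using hcon
      set U := ∏ Q, u Q
      have hUlt : ∀ Q : Place k K', IsOver Q P → Q.1 (scalarO P U) < 1 := fun Q hQ => by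
        rw [map_prod, map_prod, ← Finset.mul_prod_erase _ _ (Finset.mem_univ (⟨Q, hQ⟩ : {Q : Place k K' | IsOver Q P}))]
        exact (mul_le_mul' le_rfl (Finset.prod_le_one' fun R _ => hAle _ Q hQ)).trans_lt
          (by rw [mul_one]; exact hu ⟨Q, hQ⟩)
      obtain ⟨N, hN⟩ : ∃ N : ℕ, ∀ Q : Place k K', IsOver Q P → ramIdx Q P ≤ N :=
        ⟨(finite_fibre (K' := K') hF P).toFinset.sup fun Q => ramIdx Q P, fun Q hQ =>
          Finset.le_sup (f := fun Q => ramIdx Q P) ((finite_fibre hF P).mem_toFinset.2 hQ)⟩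
      obtain ⟨v, hv⟩ := hmemA (scalarO P U ^ N / T) fun Q hQ => by
        have hQT : Q.1 T = exp (-(ramIdx Q P : ℤ)) := by
          rw [isOverWith_ramIdx hQ t, ht, ← exp_nsmul]; simp
        rw [map_div₀, map_pow, hQT, div_le_iff₀ exp_pos, one_mul]
        refine (pow_le_pow_left₀ zero_le ((lt_one_iff_le _).1 (hUlt Q hQ)) N).trans ?_
        rw [← exp_nsmul, exp_le_exp, nsmul_eq_mul]
        have := hN Q hQ
        omega
      have hUN : U ^ N = ((1 : k') ⊗ₜ[k] tO) * v := by
        apply scalarO_injective h P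
        rw [map_pow, map_mul, hv, scalarO_tmul, map_one, one_mul]
        exact (mul_div_cancel₀ _ hT0).symm
      have h0 := congrArg χ hUN
      rw [map_pow, map_mul, hχ, show IsLocalRing.residue P.O tO = 0 from (residue_eq_zero_iff P tO).2 (by
        show P.1 t < 1
        rw [ht, ← exp_zero, exp_lt_exp]; norm_num), map_zero, mul_zero, zero_mul, map_prod] at h0
      obtain ⟨Q, -, hQ⟩ := Finset.prod_eq_zero_iff.1 (eq_zero_of_pow_eq_zero h0)
      exact hχu Q hQ
    obtain ⟨Q, hQ⟩ := hQex
    refine ⟨Q, AlgHom.ext fun x => ?_⟩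
    obtain ⟨o, rfl⟩ := IsLocalRing.residue_surjective x
    have h1 := hQ ((1 : k') ⊗ₜ[k] o - (τ Q (IsLocalRing.residue P.O o)) ⊗ₜ[k] (1 : P.O)) (by
      rw [map_sub, scalarO_tmul, scalarO_tmul, map_one, one_mul, OneMemClass.coe_one, map_one, mul_one]
      exact hτ Q o)
    rw [map_sub, hχ, hχ, map_one, one_mul, map_one, map_one, mul_one, sub_eq_zero] at h1
    exact h1.symm
  haveI : Algebra.IsAlgebraic k (IsLocalRing.ResidueField P.O) := Algebra.IsAlgebraic.of_finite k _
  set n := Field.finSepDegree k (IsLocalRing.ResidueField P.O) with hn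
  have hcard : Nat.card {Q : Place k K' | IsOver Q P} = n := by
    rw [hn, Field.finSepDegree_eq_of_isAlgClosed k (IsLocalRing.ResidueField P.O) L]
    refine Nat.card_eq_of_bijective (fun Q => (IsScalarTower.toAlgHom k k' L).comp (τ Q)) ⟨fun a b hab => hinj ?_, hsurj⟩
    exact AlgHom.ext fun x => (algebraMap k' L).injective (AlgHom.congr_fun hab x)
  refine ⟨(Nat.card_coe_set_eq _).symm.trans hcard, ?_⟩
  haveI : Algebra.IsAlgebraic k (IsLocalRing.ResidueField P.O) := Algebra.IsAlgebraic.of_finite k _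
  set Fs := separableClosure k (IsLocalRing.ResidueField P.O)
  set q := Module.finrank Fs (IsLocalRing.ResidueField P.O)
  have hdeg : Module.finrank k (IsLocalRing.ResidueField P.O) = n * q := by
    rw [← Module.finrank_mul_finrank k Fs (IsLocalRing.ResidueField P.O),
      ← Field.finSepDegree_eq_finrank_of_isSeparable k Fs, hn,
      ← Field.finSepDegree_mul_finSepDegree_of_isAlgebraic k Fs (IsLocalRing.ResidueField P.O),
      IsPurelyInseparable.finSepDegree_eq_one Fs (IsLocalRing.ResidueField P.O), mul_one]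
  choose o ho using hlift
  let e : {Q : Place k K' | IsOver Q P} → ℕ := fun Q => ramIdx Q.1 P
  have he : ∀ Q : {Q : Place k K' | IsOver Q P}, IsOverWith Q.1 P (e Q) := fun Q => isOverWith_ramIdx Q.2
  -- the classes of the residues
  let ψ : ∀ Q : {Q : Place k K' | IsOver Q P}, IsLocalRing.ResidueField P.O →ₗ[k] K' ⧸ Mn k' Q.1 (e Q) := fun Q =>
    { toFun := fun x => (Mn k' Q.1 (e Q)).mkQ (algebraMap K K' (o x : K))
      map_add' := fun x y => by
        rw [← map_add, Submodule.mkQ_apply, Submodule.mkQ_apply, Submodule.Quotient.eq]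
        rw [mem_Mn]
        rw [← map_add, ← map_sub]
        exact hsmall Q.1 _ (he Q) (o (x + y) - (o x + o y)) (by simp [ho])
      map_smul' := fun c x => by
        rw [RingHom.id_apply, ← LinearMap.map_smul_of_tower, Submodule.mkQ_apply, Submodule.mkQ_apply,
          Submodule.Quotient.eq]
        rw [mem_Mn]
        rw [Algebra.smul_def (A := K'), IsScalarTower.algebraMap_apply k K K', ← map_mul, ← map_sub]
        exact hsmall Q.1 _ (he Q) (o (c • x) - algebraMap k P.O c * o x) (by
          rw [map_sub, map_mul, ho, ho, Algebra.smul_def]; exact sub_self _) }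
  have hψ : ∀ Q (a : P.O), ψ Q (IsLocalRing.residue P.O a) = (Mn k' Q.1 (e Q)).mkQ (algebraMap K K' (a : K)) :=
    fun Q a => by
    show (Mn k' Q.1 (e Q)).mkQ _ = _
    rw [Submodule.mkQ_apply, Submodule.mkQ_apply, Submodule.Quotient.eq]
    rw [mem_Mn]
    rw [← map_sub]
    exact hsmall Q.1 _ (he Q) (o (IsLocalRing.residue P.O a) - a) (by rw [map_sub, ho, sub_self])
  let Λ : k' ⊗[k] IsLocalRing.ResidueField P.O →ₗ[k'] ∀ Q : {Q : Place k K' | IsOver Q P}, K' ⧸ Mn k' Q.1 (e Q) :=
    LinearMap.pi fun Q => (ψ Q).liftBaseChange k'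
  have hΛ : ∀ (u : k' ⊗[k] P.O) Q, Λ (resTensor P u) Q = (Mn k' Q.1 (e Q)).mkQ (scalarO P u) := by
    intro u Q
    induction u using TensorProduct.induction_on with
    | zero => simp
    | add a b ha hb => simp only [map_add, Pi.add_apply, ha, hb]
    | tmul a r =>
      show (ψ Q).liftBaseChange k' (a ⊗ₜ[k] IsLocalRing.residue P.O r) = _
      rw [LinearMap.liftBaseChange_tmul, hψ, scalarO_tmul, ← map_smul, Algebra.smul_def]
  have hrsurj : Function.Surjective (resTensor (k' := k') P) :=
    LinearMap.lTensor_surjective k' (g := (resO P).toLinearMap) IsLocalRing.residue_surjective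
  have hΛinj : Function.Injective Λ := by
    refine (injective_iff_map_eq_zero Λ).2 fun x hx => ?_
    obtain ⟨u, rfl⟩ := hrsurj x
    obtain ⟨v, hv⟩ := hmemA (scalarO P u / T) fun Q hQ => by
      have h1 : Q.1 (scalarO P u) ≤ exp (-(e ⟨Q, hQ⟩ : ℤ)) :=
        mem_Mn.1 ((Submodule.Quotient.mk_eq_zero _).1 ((hΛ u ⟨Q, hQ⟩).symm.trans (congrFun hx _)))
      rw [map_div₀, show T = algebraMap K K' t from rfl, he ⟨Q, hQ⟩ t, ht, ← exp_nsmul,
        div_le_iff₀ exp_pos, one_mul]
      refine h1.trans_eq ?_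
      simp
    have huv : u = ((1 : k') ⊗ₜ[k] tO) * v := by
      apply scalarO_injective h P
      rw [map_mul, hv, scalarO_tmul, map_one, one_mul]
      exact (mul_div_cancel₀ _ hT0).symm
    rw [huv, map_mul]
    show ((1 : k') ⊗ₜ[k] resO P tO) * _ = 0
    rw [show resO P tO = 0 from (residue_eq_zero_iff P tO).2 (by
      show P.1 t < 1
      rw [ht, ← exp_zero, exp_lt_exp]; norm_num), TensorProduct.tmul_zero, zero_mul]
  -- every class is a combination of `q` of them
  have hW : ∀ Q, FiniteDimensional k' (Wn k' Q.1 (e Q)) ∧ Module.finrank k' (Wn k' Q.1 (e Q)) = e Q := fun Q => by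
    obtain ⟨s, -, hs⟩ := exists_uniformizer Q.1
    exact finrank_Wn Q.1 hs (hres Q.1 Q.2) _
  have hle : ∀ Q, e Q ≤ q := by
    intro Q
    haveI : Module.Finite Fs (IsLocalRing.ResidueField P.O) := Module.Finite.of_restrictScalars_finite k Fs _
    let b := Module.finBasis Fs (IsLocalRing.ResidueField P.O)
    let S := Submodule.span k' (Set.range fun m => ψ Q (b m))
    have hmul : ∀ (x : IsLocalRing.ResidueField P.O), x ∈ Fs → ∀ y, ψ Q (x * y) = τ Q x • ψ Q y := by
      intro x hx y
      have hsep : IsSeparable k x := hx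
      set r := τ Q x
      set g := (minpoly k x).map (algebraMap k k') with hg
      have hg0 : g.eval r = 0 := by
        rw [hg, eval_map, ← aeval_def, aeval_algHom_apply, minpoly.aeval, map_zero]
      obtain ⟨g₁, hg₁⟩ := dvd_iff_isRoot.2 hg0
      have hg₁r : g₁.eval r ≠ 0 := by
        intro h0
        obtain ⟨g₂, hg₂⟩ := dvd_iff_isRoot.2 h0
        have hsq : Squarefree g := Polynomial.Separable.squarefree (Polynomial.Separable.map hsep)
        exact not_isUnit_X_sub_C r (hsq _ ⟨g₂, by rw [hg₁, hg₂, mul_assoc]⟩)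
      set a := algebraMap K K' (o x : K) with ha
      have hga : Q.1.1 (aeval a g) ≤ exp (-(e Q : ℤ)) := by
        rw [hg, aeval_map_algebraMap, ha, aeval_algebraMap_apply,
          show (aeval (o x : K) (minpoly k x)) = ((aeval (o x) (minpoly k x) : P.O) : K) from
            aeval_algHom_apply (inclO P) (o x) (minpoly k x)]
        refine hsmall Q.1 _ (he Q) _ ?_
        show resO P (aeval (o x) (minpoly k x)) = 0
        rw [← aeval_algHom_apply]
        show aeval (IsLocalRing.residue P.O (o x)) (minpoly k x) = 0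
        rw [ho, minpoly.aeval]
      have har : Q.1.1 (a - algebraMap k' K' r) < 1 := by
        have := hτ Q (o x); rwa [ho] at this
      have hunit : Q.1.1 (aeval a g₁) = 1 := by
        obtain ⟨g₃, hg₃⟩ : X - C r ∣ g₁ - C (g₁.eval r) := dvd_iff_isRoot.2 (by simp)
        have e1 : aeval a g₁ = algebraMap k' K' (g₁.eval r) + (a - algebraMap k' K' r) * aeval a g₃ := by
          have := congrArg (aeval a) hg₃
          rw [map_sub, map_mul, map_sub, aeval_C, aeval_X, aeval_C] at this
          rw [← this]; ring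
        have ha1 : Q.1.1 a ≤ 1 := hOle Q.1 (o x) Q.2
        have hpoly : ∀ f : k'[X], Q.1.1 (aeval a f) ≤ 1 := fun f => by
          rw [aeval_eq_sum_range]
          refine Valuation.map_sum_le _ fun i _ => ?_
          rw [Algebra.smul_def, map_mul, map_pow]
          exact mul_le_one' (val_const_le Q.1 _) (pow_le_one₀ zero_le ha1)
        rw [e1, Valuation.map_add_eq_of_lt_left, val_const_eq Q.1 hg₁r]
        rw [val_const_eq Q.1 hg₁r, map_mul]
        exact (mul_le_mul' le_rfl (hpoly g₃)).trans_lt (by rw [mul_one]; exact har)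
      have har' : Q.1.1 (a - algebraMap k' K' r) ≤ exp (-(e Q : ℤ)) := by
        rw [hg₁, map_mul, map_sub, aeval_X, aeval_C, map_mul, hunit, mul_one] at hga
        exact hga
      obtain ⟨y, rfl⟩ := IsLocalRing.residue_surjective y
      rw [← ho x, ← map_mul, hψ, hψ, ← map_smul, Submodule.mkQ_apply, Submodule.mkQ_apply, Submodule.Quotient.eq]
      rw [mem_Mn]
      rw [show ((o x * y : P.O) : K) = (o x : K) * y from rfl, map_mul, Algebra.smul_def, ← ha, ← sub_mul, map_mul]
      exact (mul_le_mul' har' (hOle Q.1 y Q.2)).trans_eq (mul_one _)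
    have hψS : ∀ x, ψ Q x ∈ S := fun x => by
      rw [← b.sum_repr x, map_sum]
      refine Submodule.sum_mem _ fun m _ => ?_
      rw [show b.repr x m • b m = ((b.repr x m : Fs) : IsLocalRing.ResidueField P.O) * b m from
        Algebra.smul_def _ _, hmul _ (b.repr x m).2]
      exact Submodule.smul_mem _ _ (Submodule.subset_span ⟨m, rfl⟩)
    have hWS : Wn k' Q.1 (e Q) ≤ S := by
      rintro _ ⟨z, hz, rfl⟩
      obtain ⟨w, hw, hwQ, -⟩ := exists_integral_near P hF (Q := Q.1) z (mem_Mn_zero.1 hz) (e Q)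
      obtain ⟨u, rfl⟩ := hmemA w ((isIntegral_iff hF P w).1 hw)
      rw [show (Mn k' Q.1 (e Q)).mkQ z = (Mn k' Q.1 (e Q)).mkQ (scalarO P u) from
        ((Submodule.Quotient.eq _).2 (mem_Mn.2 hwQ)).symm, ← hΛ u Q]
      generalize resTensor P u = y
      induction y using TensorProduct.induction_on with
      | zero => simp
      | add a b ha hb => rw [map_add, Pi.add_apply]; exact add_mem ha hb
      | tmul a r =>
        show (ψ Q).liftBaseChange k' (a ⊗ₜ[k] r) ∈ S
        rw [LinearMap.liftBaseChange_tmul]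
        exact S.smul_mem _ (hψS r)
    rw [← (hW Q).2]
    haveI : FiniteDimensional k' S := FiniteDimensional.span_of_finite k' (Set.finite_range _)
    refine (Submodule.finrank_mono hWS).trans ((finrank_range_le_card _).trans ?_)
    rw [Fintype.card_fin]
  haveI := fun Q => (hW Q).1
  haveI := Fintype.ofFinite {Q : Place k K' | IsOver Q P}
  haveI : ∀ Q, Module.Free k' (Wn k' (Q : {Q : Place k K' | IsOver Q P}).1 (e Q)) := fun Q =>
    Module.Free.of_divisionRing k' _
  have hΛW : ∀ y Q, Λ y Q ∈ Wn k' Q.1 (e Q) := fun y Q => by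
    obtain ⟨u, rfl⟩ := hrsurj y
    rw [hΛ]
    exact Submodule.mem_map_of_mem (mem_Mn_zero.2 (hAle u Q.1 Q.2))
  let Λ' : k' ⊗[k] IsLocalRing.ResidueField P.O →ₗ[k'] ∀ Q, Wn k' Q.1 (e Q) :=
    LinearMap.pi fun Q => ((LinearMap.proj Q).comp Λ).codRestrict _ fun y => hΛW y Q
  have hsum : n * q ≤ ∑ Q, e Q := by
    have h1 := LinearMap.finrank_le_finrank_of_injective (f := Λ') fun a b hab =>
      hΛinj (funext fun Q => congrArg Subtype.val (congrFun hab Q))
    rw [Module.finrank_baseChange, Module.finrank_pi_fintype, hdeg] at h1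
    exact h1.trans_eq (Finset.sum_congr rfl fun Q _ => (hW Q).2)
  intro Q hQ
  have hsumle : ∑ Q, e Q ≤ n * q := by
    refine (Finset.sum_le_card_nsmul _ _ _ fun Q _ => hle Q).trans_eq ?_
    rw [Finset.card_univ, ← Nat.card_eq_fintype_card, hcard, smul_eq_mul]
  have heq : e ⟨Q, hQ⟩ = q := by
    refine le_antisymm (hle _) ?_
    by_contra hlt
    have : ∑ Q, e Q < ∑ _Q : {Q : Place k K' | IsOver Q P}, q :=
      Finset.sum_lt_sum (fun R _ => hle R) ⟨⟨Q, hQ⟩, Finset.mem_univ _, not_le.1 hlt⟩
    rw [Finset.sum_const, Finset.card_univ, ← Nat.card_eq_fintype_card, hcard, smul_eq_mul] at this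
    omega
  exact heq ▸ he ⟨Q, hQ⟩

end Groth.Agent.NonsingSplit28
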