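import Groth.Agent.Lib.NonsingSplit28.Main

/-! # Places over a nonsingular place in a splitting field, for places over the new constants -/

set_option autoImplicit false
set_option linter.style.haveILetI false

namespace Groth.Agent.NonsingSplit28

open WithZero FunFld FunField Polynomial
open scoped Multiplicative TensorProduct

universe u v

variable {k k' : Type u} {K K' : Type v} [Field k] [Field k'] [Field K] [Field K']
  [Algebra k k'] [FiniteDimensional k k'] [Algebra k K] [Algebra K K'] [Algebra k' K'] [Algebra k K']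
  [IsScalarTower k k' K'] [IsScalarTower k K K']

theorem wrap (h : Function.Bijective (Algebra.TensorProduct.productMap
      (IsScalarTower.toAlgHom k k' K') (IsScalarTower.toAlgHom k K K')))
    (hK : IsFunctionField k K) (P : Place k K)
    (hns : integralClosure (P.O.toSubring.map (algebraMap K K')) K' =
        Algebra.adjoin (P.O.toSubring.map (algebraMap K K')) (Set.range (algebraMap k' K')))
    (hsplit : ∀ Q : Place k' K', (∃ e : ℕ, ∀ z : K, Q.1 (algebraMap K K' z) = P.1 z ^ e) → Q.deg = 1) :
    {Q : Place k' K' | ∃ e : ℕ, ∀ z : K, Q.1 (algebraMap K K' z) = P.1 z ^ e}.Finite ∧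
    {Q : Place k' K' | ∃ e : ℕ, ∀ z : K, Q.1 (algebraMap K K' z) = P.1 z ^ e}.ncard =
      Field.finSepDegree k (IsLocalRing.ResidueField P.O) ∧
    ∀ Q : Place k' K', (∃ e : ℕ, ∀ z : K, Q.1 (algebraMap K K' z) = P.1 z ^ e) →
      ∀ z : K, Q.1 (algebraMap K K' z) =
        P.1 z ^ Module.finrank (separableClosure k (IsLocalRing.ResidueField P.O)) (IsLocalRing.ResidueField P.O) := by
  have hF : FF k K := hK.1
  haveI := finite_of_bijective h
  letI : Algebra P.O K' := ((algebraMap K K').comp P.O.subtype).toAlgebra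
  haveI : IsScalarTower P.O K K' := IsScalarTower.of_algebraMap_eq' rfl
  let up : Place k K' → Place k' K' := fun Q => ⟨Q.1, fun c => val_const_le Q c, Q.2.2⟩
  let down : Place k' K' → Place k K' := fun Q => ⟨Q.1, fun c => by
    rw [IsScalarTower.algebraMap_apply k k' K']; exact Q.2.1 _, Q.2.2⟩
  have hA : ∀ z : K', IsIntegral P.O z → z ∈ Algebra.adjoin P.O (Set.range (algebraMap k' K')) := by
    intro z hz
    have h1 : z ∈ integralClosure (P.O.toSubring.map (algebraMap K K')) K' := by
      obtain ⟨p, hp, hp0⟩ := hz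
      let f : P.O →+* P.O.toSubring.map (algebraMap K K') :=
        ((algebraMap K K').comp P.O.subtype).codRestrict _ fun o => Subring.mem_map.2 ⟨(o : K), o.2, rfl⟩
      exact ⟨p.map f, hp.map f, by rw [eval₂_map]; exact hp0⟩
    rw [hns] at h1
    clear hz
    induction h1 using Algebra.adjoin_induction with
    | mem x hx => exact Algebra.subset_adjoin hx
    | algebraMap r =>
      obtain ⟨a, ha, e⟩ := Subring.mem_map.1 r.2
      have : ((algebraMap _ K') r) = algebraMap P.O K' ⟨a, ha⟩ := e.symm
      rw [this]; exact Subalgebra.algebraMap_mem _ _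
    | add x y _ _ hx hy => exact add_mem hx hy
    | mul x y _ _ hx hy => exact mul_mem hx hy
  have hres : ∀ Q : Place k K', IsOver Q P → ∀ z : K', Q.1 z ≤ 1 → ∃ c : k', Q.1 (z - algebraMap k' K' c) < 1 := by
    intro Q hQ z hz
    obtain ⟨c, hc⟩ := (finrank_eq_one_iff_of_nonzero' (1 : IsLocalRing.ResidueField (up Q).O) one_ne_zero).1
      (hsplit (up Q) hQ) (IsLocalRing.residue (up Q).O ⟨z, hz⟩)
    refine ⟨c, ?_⟩
    have h2 : IsLocalRing.residue (up Q).O (⟨z, hz⟩ - algebraMap k' (up Q).O c) = 0 := by
      rw [map_sub, ← hc]; exact sub_eq_zero.2 ((Algebra.smul_def _ _).trans (mul_one _))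
    exact (residue_eq_zero_iff (up Q) _).1 h2
  obtain ⟨h1, h2⟩ := result h hF P hA hres
  have heq : {Q : Place k' K' | ∃ e : ℕ, ∀ z : K, Q.1 (algebraMap K K' z) = P.1 z ^ e} =
      up '' {Q : Place k K' | IsOver Q P} := by
    ext Q
    constructor
    · intro hQ; exact ⟨down Q, hQ, Subtype.ext rfl⟩
    · rintro ⟨R, hR, rfl⟩; exact hR
  have hinj : Function.Injective up := fun a b e => Subtype.ext (congrArg Subtype.val e :)
  refine ⟨heq ▸ (finite_fibre hF P).image up, by rw [heq, Set.ncard_image_of_injective _ hinj, h1], ?_⟩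
  intro Q hQ
  exact h2 (down Q) hQ

end Groth.Agent.NonsingSplit28
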